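import Groth.Agent.Lib.InvExt.FiniteFibre
import Groth.Agent.Lib.Ref1.Frame
import Groth.Agent.Lib.Euler.Coh

/-!
A finite locally free module of constant rank on the source of a finite morphism is free over a
neighbourhood of every fibre.
-/

set_option linter.style.haveILetI false
set_option backward.isDefEq.respectTransparency false

universe u

open CategoryTheory Limits AlgebraicGeometry Opposite TopologicalSpace
open GrothLib.InvExt GrothLib.FinCov

namespace GrothLib.FrameFib8

variable {X : Scheme.{u}}

/-- A change of frame by a matrix of unit determinant gives a frame. -/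
theorem isFrame_of_isUnit_det {M : X.Modules} {V W : X.Opens} (h : W ≤ V) {n : ℕ}
    {e : Fin n → Γ(M, V)} (he : IsFrame M V e) (C : Matrix (Fin n) (Fin n) Γ(X, W))
    (hC : IsUnit C.det) {s : Fin n → Γ(M, W)} (hs : ∀ i, s i = ∑ j, C i j • mres M h (e j)) :
    IsFrame M W s := by
  refine Ref1.isFrame_of_stalk fun y hy => ?_
  let Cy := C.map (X.presheaf.germ W y hy).hom
  have hCy : IsUnit Cy := by
    have h2 := hC.map (X.presheaf.germ W y hy).hom
    rw [RingHom.map_det] at h2
    exact (Matrix.isUnit_iff_isUnit_det _).2 h2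
  have hcomp : ∀ a, Ref1.stalkComb s y hy a = Ref1.stalkComb e y (h hy) (Matrix.vecMul a Cy) := by
    intro a
    simp only [Ref1.stalkComb, Fintype.linearCombination_apply, Matrix.vecMul, dotProduct,
      Finset.sum_smul]
    rw [Finset.sum_comm]
    refine Finset.sum_congr rfl fun i _ => ?_
    rw [hs i, map_sum, Finset.smul_sum]
    refine Finset.sum_congr rfl fun j _ => ?_
    rw [Mero.germ_smul, smul_smul, TopCat.Presheaf.germ_res_apply]
    rfl
  have he' : Function.Bijective (Ref1.stalkComb e y (h hy)) := Ref1.stalk_of_isFrame he y (h hy)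
  have h1 : Function.Bijective fun a : Fin n → X.presheaf.stalk y => Matrix.vecMul a Cy := by
    obtain ⟨D, hD⟩ := hCy
    refine Function.bijective_iff_has_inverse.2
      ⟨fun a => Matrix.vecMul a (↑D⁻¹ : Matrix (Fin n) (Fin n) _), fun a => ?_, fun a => ?_⟩
    · simp only [Matrix.vecMul_vecMul, ← hD, Units.mul_inv, Matrix.vecMul_one]
    · simp only [Matrix.vecMul_vecMul, ← hD, Units.inv_mul, Matrix.vecMul_one]
  have := he'.comp h1
  exact (show (Ref1.stalkComb s y hy : _ → _) =
    (Ref1.stalkComb e y (h hy)) ∘ fun a => Matrix.vecMul a Cy from funext hcomp) ▸ this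

/-- A module which is free of rank `r` near each point has a frame near any finite antichain in an
affine open. -/
theorem exists_frame_nhd_of_finite {M : X.Modules} {r : ℕ} (hM : FlatMod.IsFinLocFreeOfRank r M)
    {U : X.Opens} (hU : IsAffineOpen U) (S : Set X) (hS : S.Finite) (hSU : S ⊆ U)
    (hanti : ∀ a ∈ S, ∀ b ∈ S, a ⤳ b → a = b) :
    ∃ (W : X.Opens) (s : Fin r → Γ(M, W)), S ⊆ W ∧ IsFrame M W s := by
  classical
  haveI := hS.fintype
  haveI := Euler.isQuasicoherent_of_isFinLocFree (FinCov.isFinLocFree_of_rank hM)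
  -- frames on basic opens
  have hloc : ∀ a : S, ∃ (f : Γ(X, U)) (e : Fin r → Γ(M, X.basicOpen f)), (a : X) ∈ X.basicOpen f ∧
      IsFrame M (X.basicOpen f) e := fun a => by
    obtain ⟨V, e, haV, he⟩ := FinCov.exists_frame_nhd_of_rank hM (a : X)
    obtain ⟨f, hfV, haf⟩ := hU.exists_basicOpen_le ⟨(a : X), haV⟩ (hSU a.2)
    refine ⟨f, fun i => mres M hfV (e i), haf, fun T hT => ?_⟩
    show Function.Bijective fun c : Fin r → Γ(X, T) => ∑ i, c i • mres M hT (mres M hfV (e i))
    simp only [mres_mres]
    exact he T (hT.trans hfV)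
  choose f e hmem he using hloc
  choose n t ht using fun (a : S) (i : Fin r) => Cohom.exists_pow_smul_eq_map hU M (f a) (e a i)
  -- separating functions
  have hsep : ∀ a b : S, ∃ g : Γ(X, U), (a : X) ∈ X.basicOpen g ∧ (b ≠ a → (b : X) ∉ X.basicOpen g) := by
    intro a b
    by_cases hab : b = a
    · exact ⟨1, by rw [Scheme.basicOpen_of_isUnit _ isUnit_one]; exact hSU a.2, fun h => absurd hab h⟩
    · have : ¬ (b : X) ⤳ (a : X) := fun h => hab (Subtype.ext (hanti _ b.2 _ a.2 h))
      rw [specializes_iff_forall_open] at this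
      push Not at this
      obtain ⟨O, hO, haO, hbO⟩ := this
      obtain ⟨g, hgO, hag⟩ := hU.exists_basicOpen_le (V := ⟨O, hO⟩) ⟨(a : X), haO⟩ (hSU a.2)
      exact ⟨g, hag, fun _ h => hbO (hgO h)⟩
  choose g hg1 hg2 using hsep
  let w : S → Γ(X, U) := fun a => ∏ b, g a b
  let s : Fin r → Γ(M, U) := fun i => ∑ a, w a • t a i
  have key : ∀ a : S, ∃ W : X.Opens, ∃ h : W ≤ U, (a : X) ∈ W ∧
      IsFrame M W fun i => mres M h (s i) := by
    intro a
    have hle := X.basicOpen_le (f a)
    choose c hc using fun (b : S) (i : Fin r) => (he a _ le_rfl).2 (mres M hle (t b i))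
    simp only at hc
    let C : Matrix (Fin r) (Fin r) Γ(X, X.basicOpen (f a)) :=
      fun i j => ∑ b, fres X hle (w b) * c b i j
    have hres : ∀ i, mres M hle (s i) = ∑ j, C i j • mres M le_rfl (e a j) := fun i => by
      simp only [s, C, Finset.sum_smul, mres, map_sum]
      rw [Finset.sum_comm]
      refine Finset.sum_congr rfl fun b _ => ?_
      change mres M hle (w b • t b i) = _
      rw [mres_smul, ← hc b i, Finset.smul_sum]
      exact Finset.sum_congr rfl fun j _ => smul_smul _ _ _
    -- the matrix is invertible at `a`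
    let ev := (X.evaluation (X.basicOpen (f a)) (a : X) (hmem a)).hom
    have hev : ev C.det ≠ 0 := by
      have hca : ∀ i, c a i =
          (Pi.single i (fres X hle (f a) ^ n a i) : Fin r → Γ(X, X.basicOpen (f a))) := fun i => by
        refine (he a _ le_rfl).1 ?_
        show (∑ j, c a i j • _) =
          ∑ j, (Pi.single i (fres X hle (f a) ^ n a i) : Fin r → Γ(X, X.basicOpen (f a))) j • _
        rw [hc a i, Finset.sum_eq_single i (fun j _ hj => by simp [hj]) (fun h => absurd (Finset.mem_univ i) h),
          Pi.single_eq_same]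
        refine (ht a i).trans ?_
        exact congrArg _ (mres_self M (e a i)).symm
      have hzero : ∀ b, b ≠ a → ev (fres X hle (w b)) = 0 := fun b hb => by
        simp only [w, map_prod, fres]
        refine Finset.prod_eq_zero (Finset.mem_univ a) ?_
        refine (Scheme.evaluation_eq_zero_iff_notMem_basicOpen ..).mpr fun h => hg2 b a (Ne.symm hb) ?_
        rw [Scheme.basicOpen_res] at h
        exact h.2
      have hw : ev (fres X hle (w a)) ≠ 0 := by
        simp only [w, map_prod, fres]
        refine Finset.prod_ne_zero_iff.mpr fun b _ => ?_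
        refine (Scheme.evaluation_ne_zero_iff_mem_basicOpen ..).mpr ?_
        rw [Scheme.basicOpen_res]
        exact ⟨hmem a, hg1 a b⟩
      have hf : ev (fres X hle (f a)) ≠ 0 := by
        refine (Scheme.evaluation_ne_zero_iff_mem_basicOpen ..).mpr ?_
        show (a : X) ∈ X.basicOpen (X.presheaf.map (homOfLE hle).op (f a))
        rw [Scheme.basicOpen_res]
        exact ⟨hmem a, hmem a⟩
      have hdiag : C.map ev =
          Matrix.diagonal fun i => ev (fres X hle (w a)) * ev (fres X hle (f a)) ^ n a i := by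
        ext i j
        simp only [Matrix.map_apply, C, map_sum, map_mul]
        rw [Finset.sum_eq_single a (fun b _ hb => by rw [hzero b hb, zero_mul])
          (fun h => absurd (Finset.mem_univ a) h), hca i]
        rcases eq_or_ne i j with rfl | hij
        · rw [Pi.single_eq_same, map_pow, Matrix.diagonal_apply_eq]
        · rw [Pi.single_eq_of_ne hij.symm, map_zero, mul_zero, Matrix.diagonal_apply_ne _ hij]
      have hdet : ev C.det = ∏ i, ev (fres X hle (w a)) * ev (fres X hle (f a)) ^ n a i := by
        rw [RingHom.map_det, RingHom.mapMatrix_apply, hdiag, Matrix.det_diagonal]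
      rw [hdet]
      exact Finset.prod_ne_zero_iff.mpr fun i _ => mul_ne_zero hw (pow_ne_zero _ hf)
    refine ⟨X.basicOpen C.det, (X.basicOpen_le _).trans hle,
      (Scheme.evaluation_ne_zero_iff_mem_basicOpen ..).mp hev, ?_⟩
    refine isFrame_of_isUnit_det (X.basicOpen_le C.det) (he a)
      (C.map (X.presheaf.map (homOfLE (X.basicOpen_le C.det)).op).hom) ?_ fun i => ?_
    · rw [← RingHom.mapMatrix_apply, ← RingHom.map_det]
      exact isUnit_res_of_le_basicOpen (X.basicOpen_le _) C.det le_rfl
    · rw [← mres_mres M hle (X.basicOpen_le C.det) (s i), hres i]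
      simp only [mres, map_sum]
      refine Finset.sum_congr rfl fun j _ => ?_
      change mres M _ (C i j • mres M le_rfl (e a j)) = _
      rw [mres_smul, mres_mres]
      rfl
  choose W hW haW hfr using key
  refine ⟨⨆ a, W a, fun i => mres M (iSup_le hW) (s i),
    fun a ha => Opens.mem_iSup.mpr ⟨⟨a, ha⟩, haW _⟩, Ref1.isFrame_of_stalk fun y hy => ?_⟩
  obtain ⟨a, hya⟩ := Opens.mem_iSup.mp hy
  have := Ref1.stalk_of_isFrame (hfr a) y hya
  refine (congrArg (fun p => Function.Bijective (p : (Fin r → X.presheaf.stalk y) → _))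
    (congrArg DFunLike.coe (?_ : Ref1.stalkComb _ y hya = Ref1.stalkComb _ y hy))).mp this
  unfold Ref1.stalkComb
  congr 1
  funext i
  rw [TopCat.Presheaf.germ_res_apply, TopCat.Presheaf.germ_res_apply]

/-- A module free of rank `r` near each point of the source of a finite morphism is free over the
inverse image of an open neighbourhood of any point of the target. -/
theorem exists_free_over_nhd {Y : Scheme.{u}} (π : X ⟶ Y) [IsFinite π] {M : X.Modules} {r : ℕ}
    (hM : FlatMod.IsFinLocFreeOfRank r M) (y : Y) :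
    ∃ V : Y.Opens, y ∈ V ∧ Nonempty (M.restrict (π ⁻¹ᵁ V).ι ≅ FlatMod.freeMod (↑(π ⁻¹ᵁ V)) r) := by
  obtain ⟨U, hU, hyU, -⟩ := exists_isAffineOpen_mem_and_subset (U := (⊤ : Y.Opens)) (x := y) trivial
  have hanti : ∀ a ∈ π ⁻¹' {y}, ∀ b ∈ π ⁻¹' {y}, a ⤳ b → a = b := fun a ha b hb h =>
    Japanese.eq_of_specializes_of_isIntegralHom π h ((ha : π a = y).trans (hb : π b = y).symm)
  obtain ⟨W, s, hSW, hs⟩ := exists_frame_nhd_of_finite hM (hU.preimage π) (π ⁻¹' {y})
    (π.finite_preimage_singleton y) (fun a ha => by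
      show π a ∈ U
      rw [show π a = y from ha]; exact hyU) hanti
  let V : Y.Opens := ⟨(π '' (W : Set X)ᶜ)ᶜ, (π.isClosedMap _ W.2.isClosed_compl).isOpen_compl⟩
  have hVW : π ⁻¹ᵁ V ≤ W := fun x hx => by
    by_contra h
    exact hx ⟨x, h, rfl⟩
  refine ⟨V, ?_, exists_iso_of_frame (e := fun i => mres M hVW (s i)) fun T hT => ?_⟩
  · rintro ⟨x, hx, hxy⟩
    exact hx (hSW hxy)
  · show Function.Bijective fun c : Fin r → Γ(X, T) => ∑ i, c i • mres M hT (mres M hVW (s i))
    simp only [mres_mres]
    exact hs T (hT.trans hVW)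

end GrothLib.FrameFib8
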